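import Mathlib

/-!
A `q`-group acting coprimely on an abelian group without fixed points has an element with few
fixed points, by averaging over the group.
-/

set_option autoImplicit false
set_option linter.style.haveILetI false
set_option linter.unusedSectionVars false

namespace Cfsg.Agent.CharTheory.Primitive

universe u v

variable {V : Type u} [CommGroup V] [Finite V] {Q : Type v} [Group Q]

/-- The fixed points of an automorphism. -/
def fixSub (f : MulAut V) : Subgroup V := MonoidHom.eqLocus f.toMonoidHom (MonoidHom.id V)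

theorem mem_fixSub {f : MulAut V} {v : V} : v ∈ fixSub f ↔ f v = v := Iff.rfl

/-- `v ↦ f v / v`. -/
def delta (f : MulAut V) : V →* V where
  toFun v := f v / v
  map_one' := by simp
  map_mul' v w := by rw [map_mul, mul_div_mul_comm]

theorem delta_apply (f : MulAut V) (v : V) : delta f v = f v / v := rfl

theorem mem_fixSub_pow {f : MulAut V} {v : V} (hv : v ∈ fixSub f) (n : ℕ) :
    v ∈ fixSub (f ^ n) := by
  induction n with
  | zero => simp [mem_fixSub]
  | succ n ih => rw [mem_fixSub, pow_succ, MulAut.mul_apply, mem_fixSub.1 hv]; exact ih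

variable [Finite Q] {q : ℕ} [Fact q.Prime] (ρ : Q →* MulAut V)

/-- The kernel of the action on an invariant subgroup. -/
def kerOn (W : Subgroup V) (hW : ∀ (b : Q), ∀ w ∈ W, ρ b w ∈ W) : Subgroup Q where
  carrier := {b | ∀ w ∈ W, ρ b w = w}
  one_mem' w _ := by simp
  mul_mem' {a b} ha hb w hw := by rw [map_mul, MulAut.mul_apply, hb w hw, ha w hw]
  inv_mem' {a} ha w hw := by
    conv_lhs => rw [← ha w hw]
    rw [← MulAut.mul_apply, ← map_mul, inv_mul_cancel, map_one, MulAut.one_apply]

/-- An element acting on `W` as a central element of order `q`. -/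
theorem exists_central (hQ : IsPGroup q Q) (W : Subgroup V)
    (hW : ∀ (b : Q), ∀ w ∈ W, ρ b w ∈ W) (hne : ∃ b : Q, ∃ w ∈ W, ρ b w ≠ w) :
    ∃ z : Q, (∃ w ∈ W, ρ z w ≠ w) ∧ (∀ w ∈ W, ρ (z ^ q) w = w) ∧
      ∀ (b : Q), ∀ w ∈ W, ρ z (ρ b w) = ρ b (ρ z w) := by
  set K := kerOn ρ W hW with hK
  haveI : K.Normal := ⟨fun k hk b w hw => by
    rw [map_mul, map_mul, MulAut.mul_apply, MulAut.mul_apply, hk _ (hW b⁻¹ w hw),
      ← MulAut.mul_apply, ← map_mul, mul_inv_cancel, map_one, MulAut.one_apply]⟩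
  obtain ⟨b₀, w₀, hw₀, hb₀⟩ := hne
  haveI : Nontrivial (Q ⧸ K) := ⟨⟨(b₀ : Q ⧸ K), 1, fun h =>
    hb₀ ((QuotientGroup.eq_one_iff b₀).1 h w₀ hw₀)⟩⟩
  haveI := (hQ.to_quotient K).center_nontrivial
  have hd : q ∣ Nat.card (Subgroup.center (Q ⧸ K)) := by
    obtain ⟨n, hn⟩ := IsPGroup.iff_card.1 ((hQ.to_quotient K).to_subgroup (Subgroup.center _))
    rcases Nat.eq_zero_or_pos n with rfl | hn0
    · exact absurd (by simpa using hn) (Finite.one_lt_card (α := Subgroup.center (Q ⧸ K))).ne'
    · exact hn ▸ dvd_pow_self q hn0.ne'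
  obtain ⟨zb, hzb⟩ := exists_prime_orderOf_dvd_card' q hd
  obtain ⟨z, hz⟩ := QuotientGroup.mk'_surjective K (zb : Q ⧸ K)
  have hord : orderOf (z : Q ⧸ K) = q := by
    rw [show (z : Q ⧸ K) = zb from hz, Subgroup.orderOf_coe, hzb]
  refine ⟨z, ?_, ?_, ?_⟩
  · by_contra h
    push Not at h
    have : (z : Q ⧸ K) = 1 := (QuotientGroup.eq_one_iff z).2 h
    rw [this, orderOf_one] at hord
    exact (Fact.out : q.Prime).ne_one hord.symm
  · exact fun w hw => ((QuotientGroup.eq_one_iff (N := K) (z ^ q)).1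
      (by rw [QuotientGroup.mk_pow, ← hord, pow_orderOf_eq_one])) w hw
  · intro b w hw
    have hc : ((z * b : Q) : Q ⧸ K) = ((b * z : Q) : Q ⧸ K) := by
      rw [QuotientGroup.mk_mul, QuotientGroup.mk_mul, show (z : Q ⧸ K) = zb from hz]
      exact (Subgroup.mem_center_iff.1 zb.2 (b : Q ⧸ K)).symm
    have h := (QuotientGroup.eq.1 hc) w hw
    rw [← MulAut.mul_apply, ← map_mul, ← MulAut.mul_apply, ← map_mul]
    conv_rhs => rw [show b * z = (z * b) * ((z * b)⁻¹ * (b * z)) by group]
    rw [map_mul ρ (z * b), MulAut.mul_apply, h]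

/-- Distinct twists of an element by a fixed point free element have independent fixed points. -/
theorem prod_card_fix_le (W : Subgroup V) (hW : ∀ (b : Q), ∀ w ∈ W, ρ b w ∈ W) {z : Q}
    (hzq : ∀ w ∈ W, ρ (z ^ q) w = w) (hcomm : ∀ (b : Q), ∀ w ∈ W, ρ z (ρ b w) = ρ b (ρ z w))
    (hfree : ∀ w ∈ W, ρ z w = w → w = 1) (b : Q) :
    ∏ i ∈ Finset.range q, Nat.card ↥(W ⊓ fixSub (ρ (b * z ^ i))) ≤ Nat.card W := by
  classical
  have hpow : ∀ (n : ℕ) (w : V), w ∈ W → ρ (z ^ n) (ρ b w) = ρ b (ρ (z ^ n) w) := by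
    intro n
    induction n with
    | zero => simp
    | succ n ih =>
      intro w hw
      rw [pow_succ, map_mul, MulAut.mul_apply, hcomm b w hw, ih _ (hW z w hw), MulAut.mul_apply]
  have hmod : ∀ (n : ℕ) (w : V), w ∈ W → ρ (z ^ (q + n)) w = ρ (z ^ n) w := fun n w hw => by
    rw [pow_add, map_mul, MulAut.mul_apply, hzq _ (hW _ w hw)]
  have key : ∀ s : Finset ℕ, s ⊆ Finset.range q → ∀ w : ℕ → V,
      (∀ i ∈ s, w i ∈ W ⊓ fixSub (ρ (b * z ^ i))) → ∏ i ∈ s, w i = 1 → ∀ i ∈ s, w i = 1 := by
    intro s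
    induction s using Finset.induction with
    | empty => simp
    | @insert k s hk ih =>
      intro hs w hw hprod
      have hkq : k < q := Finset.mem_range.1 (hs (Finset.mem_insert_self k s))
      have hzero : ∀ i ∈ s, w i = 1 := by
        -- apply `z ^ k * b - 1`
        have hval : ∀ i ∈ insert k s, delta (ρ (b * z ^ k)) (w i) =
            ρ (z ^ (k + q - i)) (w i) / w i := by
          intro i hi
          have hiq : i < q := Finset.mem_range.1 (hs hi)
          obtain ⟨hiW, hifix⟩ := Subgroup.mem_inf.1 (hw i hi)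
          have hb : ρ b (w i) = ρ (z ^ (q - i)) (w i) := by
            have h1 : ρ (z ^ i) (ρ b (w i)) = w i := by
              rw [hpow i _ hiW, ← MulAut.mul_apply, ← map_mul]; exact hifix
            calc ρ b (w i) = ρ (z ^ (q - i)) (ρ (z ^ i) (ρ b (w i))) := by
                  rw [← MulAut.mul_apply, ← map_mul, ← pow_add, Nat.sub_add_cancel hiq.le,
                    hzq _ (hW b _ hiW)]
              _ = _ := by rw [h1]
          rw [delta_apply, map_mul, MulAut.mul_apply, ← hpow k _ hiW, hb, ← MulAut.mul_apply,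
            ← map_mul, ← pow_add, show k + (q - i) = k + q - i by omega]
        have hk1 : delta (ρ (b * z ^ k)) (w k) = 1 := by
          rw [hval k (Finset.mem_insert_self k s), show k + q - k = q by omega,
            hzq _ (Subgroup.mem_inf.1 (hw k (Finset.mem_insert_self k s))).1, div_self']
        have h2 : ∏ i ∈ s, delta (ρ (b * z ^ k)) (w i) = 1 := by
          have := congrArg (delta (ρ (b * z ^ k))) hprod
          rwa [map_prod, map_one, Finset.prod_insert hk, hk1, one_mul] at this
        have h3 := ih ((Finset.subset_insert k s).trans hs) (fun i => delta (ρ (b * z ^ k)) (w i))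
          (fun i hi => by
            have hi' := Finset.mem_insert_of_mem (b := k) hi
            obtain ⟨hiW, hifix⟩ := Subgroup.mem_inf.1 (hw i hi')
            refine Subgroup.mem_inf.2 ⟨?_, ?_⟩
            · show delta _ _ ∈ W
              rw [delta_apply]
              exact div_mem (hW _ _ hiW) hiW
            · rw [mem_fixSub]
              have hz : ρ (b * z ^ i) (ρ (z ^ (k + q - i)) (w i)) =
                  ρ (z ^ (k + q - i)) (w i) := by
                rw [← MulAut.mul_apply, ← map_mul, mul_assoc, ← pow_add, map_mul, MulAut.mul_apply,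
                  ← hpow _ _ hiW, add_comm, pow_add, map_mul, MulAut.mul_apply]
                conv_rhs => rw [← show ρ (b * z ^ i) (w i) = w i from hifix]
                rw [map_mul, MulAut.mul_apply, hpow i _ hiW]
              show ρ (b * z ^ i) (delta _ (w i)) = delta _ (w i)
              rw [hval i hi', map_div, hz, show ρ (b * z ^ i) (w i) = w i from hifix]) h2
        intro i hi
        have hi' := Finset.mem_insert_of_mem (b := k) hi
        have hiq : i < q := Finset.mem_range.1 (hs hi')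
        have hiW := (Subgroup.mem_inf.1 (hw i hi')).1
        have h4 : ρ (z ^ (k + q - i)) (w i) = w i := by
          have := h3 i hi
          rwa [hval i hi', div_eq_one] at this
        refine hfree _ hiW ?_
        have hne : (k + q - i).Coprime q := by
          refine ((Fact.out : q.Prime).coprime_iff_not_dvd.2 fun hd => ?_).symm
          obtain ⟨c, hc⟩ := hd
          have hik : i ≠ k := fun h => hk (h ▸ hi)
          rcases c with _ | _ | c
          · omega
          · omega
          · have : q * (c + 1 + 1) ≥ 2 * q := by nlinarith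
            omega
        obtain ⟨n, hn⟩ := Nat.exists_mul_mod_eq_one_of_coprime hne (Fact.out : q.Prime).one_lt
        have h5 : w i ∈ fixSub (ρ (z ^ ((k + q - i) * n))) := by
          rw [pow_mul, map_pow]
          exact mem_fixSub_pow h4 _
        have h6 : ∀ m : ℕ, ρ (z ^ (q * m)) (w i) = w i := fun m => by
          induction m with
          | zero => simp
          | succ m ihm => rw [Nat.mul_succ, pow_add, map_mul, MulAut.mul_apply, hzq _ hiW, ihm]
        have h7 := mem_fixSub.1 h5
        rw [← Nat.mod_add_div ((k + q - i) * n) q, hn.2, pow_add, pow_one, map_mul,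
          MulAut.mul_apply, h6] at h7
        exact h7
      intro i hi
      rcases Finset.mem_insert.1 hi with rfl | hi
      · rwa [Finset.prod_insert hk, Finset.prod_eq_one hzero, mul_one] at hprod
      · exact hzero i hi
  rw [← Finset.prod_coe_sort, ← Nat.card_pi]
  refine Nat.card_le_card_of_injective (fun w => (⟨∏ i, (w i : V), prod_mem fun i _ =>
    (Subgroup.mem_inf.1 (w i).2).1⟩ : W)) fun w w' h => ?_
  have h' : ∏ i, (w i : V) = ∏ i, (w' i : V) := congrArg Subtype.val h
  let d : ℕ → V := fun i => if hi : i ∈ Finset.range q then (w ⟨i, hi⟩ : V) / w' ⟨i, hi⟩ else 1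
  have hd := key (Finset.range q) Finset.Subset.rfl d (fun i hi => by
    simp only [d, dif_pos hi]
    exact div_mem (w ⟨i, hi⟩).2 (w' ⟨i, hi⟩).2) (by
    rw [← Finset.prod_coe_sort]
    simp only [d, dif_pos (Subtype.prop _), Subtype.coe_eta, Finset.prod_div_distrib, h', div_self'])
  funext i
  have := hd i i.2
  simp only [d, dif_pos i.2, div_eq_one] at this
  exact Subtype.ext this

/-- The averaged bound. -/
theorem prod_fix_le [Fintype Q] (hQ : IsPGroup q Q) : ∀ (n : ℕ) (W : Subgroup V),
    Nat.card W ≤ n → (∀ (b : Q), ∀ w ∈ W, ρ b w ∈ W) → ¬ q ∣ Nat.card W →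
    (∀ w ∈ W, (∀ b, ρ b w = w) → w = 1) →
    ∏ b : Q, Nat.card ↥(W ⊓ fixSub (ρ b)) ^ q ≤ Nat.card W ^ Fintype.card Q := by
  intro n
  induction n with
  | zero => intro W hc; exact absurd hc (by have := Nat.card_pos (α := W); omega)
  | succ n ih =>
    intro W hcard hW hqW hfix
    rcases Subgroup.bot_or_nontrivial W with rfl | hne
    · simp
    obtain ⟨⟨w₀, hw₀⟩, hw₀1⟩ := exists_ne (1 : W)
    have hmove : ∃ b : Q, ρ b w₀ ≠ w₀ := by
      by_contra h
      push Not at h
      exact hw₀1 (Subtype.ext (hfix w₀ hw₀ h))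
    obtain ⟨z, ⟨w₁, hw₁, hw₁'⟩, hzq, hcomm⟩ :=
      exists_central ρ hQ W hW ⟨hmove.choose, w₀, hw₀, hmove.choose_spec⟩
    set f := delta (ρ z)
    set C := W ⊓ fixSub (ρ z) with hC
    set D := W.map f with hD
    have hDW : D ≤ W := by
      rintro _ ⟨w, hw, rfl⟩
      exact div_mem (hW z w hw) hw
    have hDinv : ∀ (b : Q), ∀ w ∈ D, ρ b w ∈ D := by
      rintro b _ ⟨w, hw, rfl⟩
      refine ⟨ρ b w, hW b w hw, ?_⟩
      simp only [f, delta_apply, map_div, hcomm b w hw]
    have hCinv : ∀ (b : Q), ∀ w ∈ C, ρ b w ∈ C := fun b w hw =>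
      ⟨hW b w hw.1, by
        show ρ z (ρ b w) = ρ b w
        rw [hcomm b w hw.1, show ρ z w = w from hw.2]⟩
    have hfree : ∀ w ∈ D, ρ z w = w → w = 1 := by
      rintro _ ⟨u, hu, rfl⟩ hfixu
      have hn : ∀ m : ℕ, ρ (z ^ m) u = u * f u ^ m := fun m => by
        induction m with
        | zero => simp
        | succ m ihm =>
          rw [pow_succ', map_mul, MulAut.mul_apply, ihm, map_mul, map_pow, hfixu,
            show ρ z u = u * f u by simp [f, delta_apply], pow_succ', mul_assoc]
      have h1 := hn q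
      rw [hzq u hu, left_eq_mul] at h1
      have h2 : (f u) ^ Nat.card W = 1 :=
        orderOf_dvd_iff_pow_eq_one.1 (W.orderOf_dvd_natCard (hDW ⟨u, hu, rfl⟩))
      have h3 := pow_gcd_eq_one.2 ⟨h1, h2⟩
      rwa [show Nat.gcd q (Nat.card W) = 1 from (Fact.out : q.Prime).coprime_iff_not_dvd.2 hqW,
        pow_one] at h3
    have hsplit : ∀ A : Subgroup V, A ≤ W →
        Nat.card A = Nat.card ↥(A ⊓ fixSub (ρ z)) * Nat.card (A.map f) := fun A _ => by
      have h1 := Subgroup.card_eq_card_quotient_mul_card_subgroup (f.comp A.subtype).ker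
      rw [Nat.card_congr (QuotientGroup.quotientKerEquivRange (f.comp A.subtype)).toEquiv,
        MonoidHom.range_comp, Subgroup.range_subtype, mul_comm] at h1
      rw [h1]
      congr 1
      refine Nat.card_congr ((Subgroup.equivMapOfInjective _ A.subtype A.subtype_injective).trans
        (MulEquiv.subgroupCongr ?_)).toEquiv
      ext v
      constructor
      · rintro ⟨a, ha, rfl⟩
        exact ⟨a.2, div_eq_one.1 ha⟩
      · rintro ⟨ha, hv⟩
        exact ⟨⟨v, ha⟩, div_eq_one.2 hv, rfl⟩
    have hcardW := hsplit W le_rfl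
    have hstep : ∀ b : Q, Nat.card ↥(W ⊓ fixSub (ρ b)) ≤
        Nat.card ↥(C ⊓ fixSub (ρ b)) * Nat.card ↥(D ⊓ fixSub (ρ b)) := fun b => by
      rw [hsplit _ inf_le_left]
      refine Nat.mul_le_mul ?_ (Subgroup.card_le_of_le ?_)
      · exact le_of_eq (by rw [hC, inf_right_comm])
      · rintro _ ⟨w, ⟨hw, hwb⟩, rfl⟩
        refine ⟨⟨w, hw, rfl⟩, ?_⟩
        show ρ b (f w) = f w
        simp only [f, delta_apply, map_div, ← hcomm b w hw, show ρ b w = w from hwb]
    have hClt : Nat.card C ≤ n := by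
      have h1 : 1 < Nat.card D := by
        rw [Subgroup.one_lt_card_iff_ne_bot]
        intro h
        exact hw₁' (div_eq_one.1 (Subgroup.mem_bot.1 (h ▸ ⟨w₁, hw₁, rfl⟩ : f w₁ ∈ (⊥ : Subgroup V))))
      have h2 : 0 < Nat.card C := Nat.card_pos
      rw [hcardW] at hcard
      nlinarith
    have hC' := ih C hClt hCinv (fun h => hqW (h.trans (Subgroup.card_dvd_of_le inf_le_left)))
      (fun w hw h => hfix w hw.1 h)
    have hD' : ∏ b : Q, Nat.card ↥(D ⊓ fixSub (ρ b)) ^ q ≤ Nat.card D ^ Fintype.card Q := by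
      have h1 : ∏ b : Q, Nat.card ↥(D ⊓ fixSub (ρ b)) ^ q =
          ∏ b : Q, ∏ i ∈ Finset.range q, Nat.card ↥(D ⊓ fixSub (ρ (b * z ^ i))) := by
        rw [Finset.prod_comm, Finset.prod_pow]
        symm
        refine (Finset.prod_congr rfl (g := fun _ => ∏ b : Q, Nat.card ↥(D ⊓ fixSub (ρ b)))
          fun i _ => Fintype.prod_equiv (Equiv.mulRight (z ^ i)) _ _ fun b => rfl).trans ?_
        rw [Finset.prod_const, Finset.card_range]
      rw [h1, ← Finset.card_univ, ← Finset.prod_const]
      exact Finset.prod_le_prod' fun b _ => prod_card_fix_le ρ D hDinv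
        (fun w hw => hzq w (hDW hw)) (fun b w hw => hcomm b w (hDW hw)) hfree b
    calc ∏ b : Q, Nat.card ↥(W ⊓ fixSub (ρ b)) ^ q
        ≤ ∏ b : Q, (Nat.card ↥(C ⊓ fixSub (ρ b)) ^ q * Nat.card ↥(D ⊓ fixSub (ρ b)) ^ q) :=
          Finset.prod_le_prod' fun b _ => by
            rw [← mul_pow]; exact Nat.pow_le_pow_left (hstep b) q
      _ ≤ Nat.card C ^ Fintype.card Q * Nat.card D ^ Fintype.card Q := by
          rw [Finset.prod_mul_distrib]; exact Nat.mul_le_mul hC' hD'
      _ = Nat.card W ^ Fintype.card Q := by rw [← mul_pow, hcardW]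

/-- Some element fixes at most a `q`-th root of the points. -/
theorem exists_fix_le (hQ : IsPGroup q Q) (W : Subgroup V)
    (hW : ∀ (b : Q), ∀ w ∈ W, ρ b w ∈ W) (hqW : ¬ q ∣ Nat.card W)
    (hfix : ∀ w ∈ W, (∀ b, ρ b w = w) → w = 1) :
    ∃ b : Q, Nat.card ↥(W ⊓ fixSub (ρ b)) ^ q ≤ Nat.card W := by
  classical
  haveI := Fintype.ofFinite Q
  by_contra h
  push Not at h
  have h1 := prod_fix_le ρ hQ _ W le_rfl hW hqW hfix
  rw [← Finset.card_univ, ← Finset.prod_const] at h1
  exact h1.not_gt (Finset.prod_lt_prod_of_nonempty (fun b _ => Nat.card_pos) (fun b _ => h b)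
    Finset.univ_nonempty)

end Cfsg.Agent.CharTheory.Primitive
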